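import Mathlib.RingTheory.Filtration
import Mathlib.RingTheory.Localization.AtPrime.Basic
import Mathlib.RingTheory.Localization.Ideal
import Mathlib.RingTheory.Ideal.Pointwise
import Mathlib.RingTheory.Invariant.Basic
import Mathlib.RingTheory.Noetherian.Basic
import Mathlib.GroupTheory.Coset.Card
import Mathlib.RingTheory.Ideal.MinimalPrime.Noetherian

/-!
# Invariants under the decomposition group, modulo powers of the maximal ideal
-/

set_option autoImplicit false
set_option linter.style.haveILetI false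
set_option linter.unusedSectionVars false

noncomputable section

open scoped Pointwise

namespace Groth.Agent.H23Decomp

/-- The adic topology of a prime of a Noetherian subring is induced from the primes above it. -/
theorem exists_pow_descend {C R : Type*} [CommRing C] [CommRing R] [Algebra C R] [IsNoetherianRing C]
    [Module.Finite C R] (hinj : Function.Injective (algebraMap C R)) (p : Ideal C) [p.IsPrime] (𝒥 : Ideal R)
    (h𝒥 : ∀ Q : Ideal R, Q.IsPrime → Q.comap (algebraMap C R) = p → 𝒥 ≤ Q) (n : ℕ) :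
    ∃ N, 1 ≤ N ∧ ∀ x : C, algebraMap C R x ∈ 𝒥 ^ N → ∃ u, u ∉ p ∧ u * x ∈ p ^ n := by
  classical
  haveI : IsNoetherianRing R := isNoetherianRing_iff.2
    (isNoetherian_of_tower C (isNoetherian_of_isNoetherianRing_of_finite C R))
  set I := p.map (algebraMap C R)
  obtain ⟨u₀, hu₀, hmin⟩ : ∃ u, u ∉ p ∧ ∀ Q ∈ I.minimalPrimes, Q.comap (algebraMap C R) ≠ p →
      algebraMap C R u ∈ Q := by
    have hfin := I.finite_minimalPrimes_of_isNoetherianRing R
    have hch : ∀ Q ∈ I.minimalPrimes, ∃ u, u ∉ p ∧ (Q.comap (algebraMap C R) ≠ p → algebraMap C R u ∈ Q) := by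
      intro Q hQ
      by_cases h : Q.comap (algebraMap C R) = p
      · exact ⟨1, fun h1 => Ideal.IsPrime.ne_top ‹_› ((Ideal.eq_top_iff_one p).2 h1), fun hne => absurd h hne⟩
      · have hle : p ≤ Q.comap (algebraMap C R) := Ideal.map_le_iff_le_comap.1 hQ.1.2
        obtain ⟨u, hu, hu'⟩ := SetLike.exists_of_lt (lt_of_le_of_ne hle (Ne.symm h))
        exact ⟨u, hu', fun _ => hu⟩
    choose f hf hf' using hch
    refine ⟨∏ Q ∈ hfin.toFinset.attach, f Q.1 (hfin.mem_toFinset.1 Q.2), fun h => ?_, fun Q hQ hne => ?_⟩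
    · obtain ⟨Q, -, hQ⟩ := Ideal.IsPrime.prod_mem_iff.1 h
      exact hf _ _ hQ
    · rw [map_prod]
      exact Ideal.mem_of_dvd _ (Finset.dvd_prod_of_mem _ (Finset.mem_attach _ ⟨Q, hfin.mem_toFinset.2 hQ⟩))
        (hf' Q hQ hne)
  have hrad : Ideal.span {algebraMap C R u₀} * 𝒥 ≤ I.radical := by
    rw [← I.sInf_minimalPrimes, le_sInf_iff]
    intro Q hQ
    by_cases h : Q.comap (algebraMap C R) = p
    · exact Ideal.mul_le_right.trans (h𝒥 Q hQ.1.1 h)
    · exact Ideal.mul_le_left.trans ((Ideal.span_singleton_le_iff_mem _).2 (hmin Q hQ h))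
  obtain ⟨c, hc⟩ := Ideal.exists_pow_le_of_le_radical_of_fg hrad (IsNoetherian.noetherian _)
  obtain ⟨k, hk⟩ := p.exists_pow_inf_eq_pow_smul (LinearMap.range (Algebra.linearMap C R))
  refine ⟨c * (n + k) + 1, by omega, fun x hx => ?_⟩
  refine ⟨u₀ ^ (c * (n + k)), fun h => hu₀ (Ideal.IsPrime.mem_of_pow_mem ‹_› _ h), ?_⟩
  have h1 : algebraMap C R (u₀ ^ (c * (n + k)) * x) ∈ I ^ (n + k) := by
    refine Ideal.pow_right_mono hc (n + k) ?_
    rw [← pow_mul, mul_pow, map_mul, map_pow, Ideal.span_singleton_pow]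
    exact Ideal.mul_mem_mul (Ideal.mem_span_singleton_self _) (Ideal.pow_le_pow_right (Nat.le_succ _) hx)
  have h2 : algebraMap C R (u₀ ^ (c * (n + k)) * x) ∈
      p ^ (n + k) • (⊤ : Submodule C R) ⊓ LinearMap.range (Algebra.linearMap C R) := by
    refine ⟨?_, ⟨_, rfl⟩⟩
    rw [Ideal.smul_top_eq_map]
    change _ ∈ (p ^ (n + k)).map (algebraMap C R)
    rw [Ideal.map_pow]
    exact h1
  rw [hk (n + k) (Nat.le_add_left k n), Nat.add_sub_cancel] at h2
  have h3 := Submodule.smul_mono (le_refl (p ^ n)) (inf_le_right (a := p ^ k • (⊤ : Submodule C R))) h2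
  rw [LinearMap.range_eq_map, ← Submodule.map_smul'', Ideal.smul_eq_mul, Ideal.mul_top] at h3
  obtain ⟨y, hy, hxy⟩ := h3
  exact hinj hxy ▸ hy

variable {G R : Type*} [Group G] [CommRing R] [MulSemiringAction G R] (H : Subgroup G)

section
variable [Finite G]

/-- The relative trace. -/
def tr (y : R) : R := ∑ᶠ c : G ⧸ H, (Quotient.out c) • y

theorem smul_out {y : R} (hy : ∀ h ∈ H, h • y = y) (g : G) (c : G ⧸ H) :
    (Quotient.out (g • c)) • y = g • (Quotient.out c) • y := by
  have h : (Quotient.out (g • c))⁻¹ * (g * Quotient.out c) ∈ H := by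
    rw [← QuotientGroup.eq, QuotientGroup.out_eq', ← smul_eq_mul, ← MulAction.Quotient.smul_mk,
      QuotientGroup.out_eq']
  conv_lhs => rw [← hy _ h]
  rw [smul_smul, mul_inv_cancel_left, mul_smul]

theorem smul_tr {y : R} (hy : ∀ h ∈ H, h • y = y) (g : G) : g • tr H y = tr H y := by
  have := Fintype.ofFinite (G ⧸ H)
  rw [tr, finsum_eq_sum_of_fintype, Finset.smul_sum]
  simp only [← smul_out H hy g]
  exact Fintype.sum_equiv (MulAction.toPerm g) _ _ fun c => rfl

theorem tr_mem {y : R} (I : Ideal R) (h : ∀ g : G, g • y ∈ I) : tr H y ∈ I :=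
  finsum_induction (fun x => x ∈ I) (zero_mem I) (fun _ _ => add_mem) fun c => h _

theorem tr_sub_mem {y : R} (hy : ∀ h ∈ H, h • y = y) (I : Ideal R) (h : ∀ g : G, g ∉ H → g • y ∈ I) :
    tr H y - y ∈ I := by
  classical
  haveI := Fintype.ofFinite (G ⧸ H)
  rw [tr, finsum_eq_sum_of_fintype, ← Finset.add_sum_erase _ _ (Finset.mem_univ ((1 : G) : G ⧸ H))]
  have h1 : (Quotient.out ((1 : G) : G ⧸ H)) • y = y := hy _ (by
    have := QuotientGroup.out_eq' ((1 : G) : G ⧸ H)
    rw [QuotientGroup.eq, mul_one, inv_mem_iff] at this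
    exact this)
  rw [h1, add_sub_cancel_left]
  refine Ideal.sum_mem _ fun c hc => h _ fun hmem => ?_
  refine (Finset.mem_erase.1 hc).1 ?_
  rw [← QuotientGroup.out_eq' c, QuotientGroup.eq]
  simpa using hmem

theorem tr_mul {a y : R} (ha : ∀ g : G, g • a = a) : tr H (a * y) = a * tr H y := by
  haveI := Fintype.ofFinite (G ⧸ H)
  simp only [tr, finsum_eq_sum_of_fintype, Finset.mul_sum, smul_mul', ha]

theorem tr_sub {x y : R} : tr H (x - y) = tr H x - tr H y := by
  haveI := Fintype.ofFinite (G ⧸ H)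
  simp only [tr, finsum_eq_sum_of_fintype, smul_sub, Finset.sum_sub_distrib]

end

variable [Finite G] (q : Ideal R) [q.IsPrime]

/-- The intersection of the conjugates by elements of a set. -/
def conjInf (S : Set G) : Ideal R := ⨅ g ∈ S, g • q

theorem mem_conjInf {S : Set G} {x : R} : x ∈ conjInf q S ↔ ∀ g ∈ S, x ∈ g • q := by
  simp [conjInf, Submodule.mem_iInf]

theorem eq_of_smul_le {g : G} (h : q ≤ g • q) : g • q = q := by
  have hk : ∀ k : ℕ, q ≤ g ^ k • q := fun k => by
    induction k with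
    | zero => simp
    | succ k ih => rw [pow_succ', mul_smul]; exact h.trans (Ideal.pointwise_smul_le_pointwise_smul_iff.2 ih)
  refine le_antisymm ?_ h
  have hg := (Ideal.pointwise_smul_le_pointwise_smul_iff (a := g)).2 (hk (orderOf g - 1))
  rwa [smul_smul, ← pow_succ', Nat.sub_add_cancel (orderOf_pos g), pow_orderOf_eq_one, one_smul] at hg

/-- Primes with the same invariants are conjugate. -/
theorem exists_smul_eq_of_forall (K : Subgroup G) (Q : Ideal R) [Q.IsPrime]
    (h : ∀ x : R, (∀ g ∈ K, g • x = x) → (x ∈ Q ↔ x ∈ q)) : ∃ g ∈ K, g • q = Q := by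
  classical
  haveI := Fintype.ofFinite K
  have key : ∀ A B : Ideal R, A.IsPrime → B.IsPrime → (∀ x : R, (∀ g ∈ K, g • x = x) → x ∈ A → x ∈ B) →
      ∃ g ∈ K, A ≤ g • B := by
    intro A B _ hB hAB
    have hsub : (A : Set R) ⊆ ⋃ g ∈ (↑(Finset.univ : Finset K) : Set K), ((g : G) • B : Ideal R) := by
      intro x hx
      have hfix : ∀ g ∈ K, g • (∏ k : K, (k : G) • x) = ∏ k : K, (k : G) • x := fun g hg => by
        rw [Finset.smul_prod']
        refine Fintype.prod_equiv (Equiv.mulLeft (⟨g, hg⟩ : K)) _ _ fun k => ?_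
        simp [mul_smul]
      have hA : (∏ k : K, (k : G) • x) ∈ A := by
        refine Ideal.mem_of_dvd _ (Finset.dvd_prod_of_mem _ (Finset.mem_univ (1 : K))) ?_
        simpa using hx
      obtain ⟨k, -, hk⟩ := hB.prod_mem_iff.1 (hAB _ hfix hA)
      refine Set.mem_biUnion (x := k⁻¹) (Finset.mem_coe.2 (Finset.mem_univ _)) ?_
      rw [SetLike.mem_coe, Ideal.mem_pointwise_smul_iff_inv_smul_mem]
      simpa using hk
    obtain ⟨g, -, hg⟩ := (Ideal.subset_union_prime (f := fun g : K => (g : G) • B) 1 1 fun g _ _ _ => (Ideal.IsPrime.smul_iff (g : G)).2 hB).1 hsub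
    exact ⟨g, g.2, hg⟩
  obtain ⟨g, hg, hQg⟩ := key Q q ‹_› ‹_› fun x hx => (h x hx).1
  obtain ⟨g', hg', hqg⟩ := key q Q ‹_› ‹_› fun x hx => (h x hx).2
  refine ⟨g, hg, le_antisymm ?_ hQg⟩
  have h1 : q ≤ (g' * g) • q := by
    rw [mul_smul]; exact hqg.trans (Ideal.pointwise_smul_le_pointwise_smul_iff.2 hQg)
  have h2 := eq_of_smul_le q h1
  calc g • q ≤ g • g' • Q := Ideal.pointwise_smul_le_pointwise_smul_iff.2 hqg
    _ = Q := by
      have h3 : g' • Q ≤ g' • g • q := Ideal.pointwise_smul_le_pointwise_smul_iff.2 hQg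
      rw [← mul_smul g' g, h2] at h3
      rw [le_antisymm h3 hqg]
      refine le_antisymm ?_ hQg
      rw [← Ideal.pointwise_smul_le_pointwise_smul_iff (a := g'), ← mul_smul, h2]
      exact hqg

theorem exists_idem (hD : MulAction.stabilizer G q ≤ H) :
    ∃ e : R, (∀ h ∈ H, h • e = e) ∧ e ∉ q ∧ ∀ g : G, g ∉ H → ∀ k ∈ H, g • e ∈ k • q := by
  classical
  haveI := Fintype.ofFinite G
  obtain ⟨a, ha, ha'⟩ : ∃ a, a ∈ conjInf q ((H : Set G)ᶜ) ∧ ∀ h ∈ H, a ∉ h • q := by
    by_contra hne
    push Not at hne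
    have hsub : (conjInf q ((H : Set G)ᶜ) : Set R) ⊆
        ⋃ h ∈ (↑(Finset.univ.filter fun h : G => h ∈ H) : Set G), (h • q : Ideal R) := by
      intro x hx
      obtain ⟨h, hh, hxh⟩ := hne x hx
      exact Set.mem_biUnion (x := h) (by simp [hh]) hxh
    obtain ⟨h, hh, hle⟩ := (Ideal.subset_union_prime 1 1 fun h _ _ _ => (Ideal.IsPrime.smul_iff h).2 ‹_›).1 hsub
    have hprime : (h • q).IsPrime := (Ideal.IsPrime.smul_iff h).2 ‹_›
    have hinf : (Finset.univ.filter fun g : G => g ∉ H).inf (fun g => g • q) ≤ h • q := by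
      refine le_trans (fun x hx => ?_) hle
      rw [mem_conjInf]
      intro g hg
      exact (Submodule.mem_finsetInf).1 hx g (by simpa using hg)
    obtain ⟨g, hg, hgle⟩ := (Ideal.IsPrime.inf_le' hprime).1 hinf
    simp only [Finset.mem_filter, Finset.mem_univ, true_and] at hg hh
    have h1 : q ≤ (g⁻¹ * h) • q := by
      rw [mul_smul, ← Ideal.pointwise_smul_le_pointwise_smul_iff (a := g), smul_inv_smul]
      exact hgle
    have h2 : g⁻¹ * h ∈ H := hD (eq_of_smul_le q h1)
    refine hg ?_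
    have := H.mul_mem hh (H.inv_mem h2)
    simpa using this
  haveI := Fintype.ofFinite H
  refine ⟨∏ k : H, (k : G) • a, fun h hh => ?_, fun he => ?_, fun g hg k hk => ?_⟩
  · rw [Finset.smul_prod']
    refine Fintype.prod_equiv (Equiv.mulLeft (⟨h, hh⟩ : H)) _ _ fun k => ?_
    simp [mul_smul]
  · obtain ⟨k, -, hk⟩ := Ideal.IsPrime.prod_mem_iff.1 he
    refine ha' (k : G)⁻¹ (inv_mem k.2) ?_
    rwa [Ideal.mem_pointwise_smul_iff_inv_smul_mem, inv_inv]
  · rw [Finset.smul_prod']
    refine Ideal.mem_of_dvd _ (Finset.dvd_prod_of_mem _ (Finset.mem_univ (1 : H))) ?_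
    rw [Ideal.mem_pointwise_smul_iff_inv_smul_mem, OneMemClass.coe_one, one_smul, ← mul_smul]
    have hmem : g⁻¹ * k ∈ ((H : Set G)ᶜ) := fun hc => hg (by
      have := H.mul_mem hk (H.inv_mem hc)
      simpa using this)
    have := (mem_conjInf q).1 ha _ hmem
    rw [Ideal.mem_pointwise_smul_iff_inv_smul_mem, mul_inv_rev, inv_inv] at this
    exact this

variable [IsNoetherianRing (FixedPoints.subring R G)] [Module.Finite (FixedPoints.subring R G) R]

theorem main (hD : MulAction.stabilizer G q ≤ H) (hle : FixedPoints.subring R G ≤ FixedPoints.subring R H) (n : ℕ) :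
    (∀ x s : FixedPoints.subring R H, (s : R) ∉ q → ∃ (b t : FixedPoints.subring R G) (u : FixedPoints.subring R H),
      (t : R) ∉ q ∧ (u : R) ∉ q ∧
        u * (Subring.inclusion hle t * x - Subring.inclusion hle b * s) ∈
          (q.comap (FixedPoints.subring R H).subtype) ^ n) ∧
    (∀ (b : FixedPoints.subring R G) (u : FixedPoints.subring R H), (u : R) ∉ q →
      u * Subring.inclusion hle b ∈ (q.comap (FixedPoints.subring R H).subtype) ^ n →
        ∃ t : FixedPoints.subring R G, (t : R) ∉ q ∧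
          t * b ∈ ((q.comap (FixedPoints.subring R H).subtype).comap (Subring.inclusion hle)) ^ n) := by
  classical
  set B := FixedPoints.subring R G
  set C := FixedPoints.subring R H
  set q' : Ideal C := q.comap C.subtype
  set p : Ideal B := q'.comap (Subring.inclusion hle)
  letI : Algebra B C := (Subring.inclusion hle).toAlgebra
  haveI : IsScalarTower B C R := IsScalarTower.of_algebraMap_eq fun _ => rfl
  haveI : Module.Finite C R := Module.Finite.of_restrictScalars_finite B C R
  haveI : IsNoetherian B R := isNoetherian_of_isNoetherianRing_of_finite B R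
  haveI : IsNoetherianRing C := isNoetherianRing_iff.2 (isNoetherian_of_tower B
    (isNoetherian_of_injective (IsScalarTower.toAlgHom B C R).toLinearMap Subtype.val_injective))
  set 𝒥 : Ideal R := conjInf q (Set.univ : Set G) with h𝒥def
  set J : Ideal R := conjInf q (H : Set G) with hJdef
  have hfixC : ∀ x : C, ∀ h ∈ H, h • (x : R) = x := fun x h hh => x.2 ⟨h, hh⟩
  have hfixB : ∀ x : B, ∀ g : G, g • (x : R) = x := fun x g => x.2 g
  obtain ⟨N₁, hN₁, hdescC⟩ := exists_pow_descend (C := C) (R := R) Subtype.val_injective q' J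
    (fun Q hQ hcomap => by
      haveI := hQ
      obtain ⟨g, hg, hgQ⟩ := exists_smul_eq_of_forall q H Q fun x hx =>
        (SetLike.ext_iff.1 hcomap ⟨x, fun h => hx h h.2⟩)
      intro x hx
      rw [← hgQ]
      exact (mem_conjInf q).1 hx g hg) n
  obtain ⟨N₂, hN₂, hdescB⟩ := exists_pow_descend (C := B) (R := R) Subtype.val_injective p 𝒥
    (fun Q hQ hcomap => by
      haveI := hQ
      obtain ⟨g, -, hgQ⟩ := exists_smul_eq_of_forall q ⊤ Q fun x hx =>
        (SetLike.ext_iff.1 hcomap ⟨x, fun g => hx g trivial⟩)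
      intro x hx
      rw [← hgQ]
      exact (mem_conjInf q).1 hx g trivial) n
  set N := N₁ + N₂
  have hJq : J ≤ q := fun x hx => by simpa using (mem_conjInf q).1 hx 1 (one_mem H)
  obtain ⟨e₀, he₀H, he₀q, he₀g⟩ := exists_idem H q hD
  set e := e₀ ^ N with he
  have hsmule : ∀ g : G, g ∉ H → g • e ∈ J ^ N := fun g hg => by
    rw [he, smul_pow']
    exact Ideal.pow_mem_pow ((mem_conjInf q).2 fun k hk => he₀g g hg k hk) N
  have heH : ∀ h ∈ H, h • e = e := fun h hh => by rw [he, smul_pow', he₀H h hh]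
  have heq : e ∉ q := fun h => he₀q (Ideal.IsPrime.mem_of_pow_mem ‹_› _ h)
  let eC : C := ⟨e, fun h => heH h h.2⟩
  -- approximation of invariants
  let T : C → B := fun y => ⟨tr H (eC * y : C), fun g => smul_tr H (hfixC _) g⟩
  have hT : ∀ y : C, (T y : R) - (eC * y : C) ∈ J ^ N := fun y => tr_sub_mem H (hfixC _) _ fun g hg => by
    rw [Subring.coe_mul, smul_mul']
    exact Ideal.mul_mem_right _ _ (hsmule g hg)
  have hTq : ∀ y : C, ((T y : R) ∈ q ↔ ((eC * y : C) : R) ∈ q) := fun y =>
    ⟨fun h => by simpa using sub_mem h (Ideal.pow_le_self (by omega) |>.trans hJq (hT y)),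
      fun h => by simpa using add_mem (Ideal.pow_le_self (by omega) |>.trans hJq (hT y)) h⟩
  refine ⟨fun x s hs => ?_, fun b u hu hub => ?_⟩
  · refine ⟨T x, T s, ?_⟩
    have hts : (T s : R) ∉ q := fun h => by
      rcases Ideal.IsPrime.mem_or_mem ‹_› ((hTq s).1 h) with h' | h'
      · exact heq h'
      · exact hs h'
    obtain ⟨w, hw, hw'⟩ := hdescC (Subring.inclusion hle (T s) * x - Subring.inclusion hle (T x) * s) (by
      refine Ideal.pow_le_pow_right (show N₁ ≤ N by omega) ?_
      have : ((T s : R) - (eC * s : C)) * x - ((T x : R) - (eC * x : C)) * s ∈ J ^ N :=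
        sub_mem (Ideal.mul_mem_right _ _ (hT s)) (Ideal.mul_mem_right _ _ (hT x))
      convert this using 1
      simp [eC, Subring.coe_mul, show ∀ z : C, algebraMap C R z = (z : R) from fun _ => rfl]
      ring)
    exact ⟨w, hts, hw, hw'⟩
  · rcases Nat.eq_zero_or_pos n with hn0 | hn0
    · exact ⟨1, fun h => Ideal.IsPrime.ne_top ‹_› ((Ideal.eq_top_iff_one q).2 h), by simp [hn0]⟩
    have key : ∀ m, ∀ c ∈ q' ^ (m + 1), ∃ w ∈ p ^ (m + 1), ((eC ^ (m + 1) * c : C) : R) - (w : R) ∈ J ^ N := by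
      intro m
      induction m with
      | zero =>
        intro c hc
        rw [zero_add, pow_one] at hc
        refine ⟨T c, ?_, ?_⟩
        · rw [zero_add, pow_one]
          exact (hTq c).2 (Ideal.mul_mem_left _ _ hc)
        · rw [zero_add, pow_one, ← neg_mem_iff, neg_sub]
          exact hT c
      | succ m ih =>
        intro c hc
        rw [pow_succ] at hc
        refine Submodule.mul_induction_on hc (fun y hy z hz => ?_) fun y z hy hz => ?_
        · obtain ⟨w, hw, hw'⟩ := ih y hy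
          refine ⟨w * T z, ?_, ?_⟩
          · rw [pow_succ]
            exact Ideal.mul_mem_mul hw (show (T z : R) ∈ q from (hTq z).2 (Ideal.mul_mem_left _ _ hz))
          · have : (((eC ^ (m + 1) * y : C) : R) - w) * (eC * z : C) - (w : R) * ((T z : R) - (eC * z : C)) ∈ J ^ N :=
              sub_mem (Ideal.mul_mem_right _ _ hw') (Ideal.mul_mem_left _ _ (hT z))
            convert this using 1
            simp [Subring.coe_mul]
            ring
        · obtain ⟨w, hw, hw'⟩ := hy
          obtain ⟨v, hv, hv'⟩ := hz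
          exact ⟨w + v, add_mem hw hv, by convert add_mem hw' hv' using 1; simp [Subring.coe_mul]; ring⟩
    obtain ⟨m, rfl⟩ : ∃ m, n = m + 1 := ⟨n - 1, by omega⟩
    obtain ⟨w, hw, hw'⟩ := key m _ hub
    let d : C := eC ^ (m + 1) * (u * Subring.inclusion hle b) - Subring.inclusion hle w
    have hd : (d : R) ∈ J ^ N := by simpa [d, Subring.coe_mul] using hw'
    have hed : e * (d : R) ∈ 𝒥 ^ N := by
      have hle' : conjInf q ((H : Set G)ᶜ) * J ≤ 𝒥 := fun x hx => (mem_conjInf q).2 fun g _ => by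
        by_cases hg : g ∈ H
        · exact (mem_conjInf q).1 (Ideal.mul_le_right hx) g hg
        · exact (mem_conjInf q).1 (Ideal.mul_le_left hx) g hg
      refine Ideal.pow_right_mono hle' N ?_
      rw [mul_pow]
      refine Ideal.mul_mem_mul (Ideal.pow_mem_pow ((mem_conjInf q).2 fun g hg => ?_) N) hd
      have hg' : g⁻¹ ∉ H := fun h => hg (by simpa using inv_mem h)
      have := he₀g g⁻¹ hg' 1 (one_mem H)
      rw [one_smul] at this
      rwa [Ideal.mem_pointwise_smul_iff_inv_smul_mem]
    have hTd : (T d : R) ∈ 𝒥 ^ N := by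
      refine tr_mem H _ fun g => ?_
      have hsm : g • 𝒥 ≤ 𝒥 := fun x hx => (mem_conjInf q).2 fun g' _ => by
        rw [Ideal.mem_pointwise_smul_iff_inv_smul_mem] at hx
        have := (mem_conjInf q).1 hx (g⁻¹ * g') trivial
        rwa [mul_smul, Ideal.smul_mem_pointwise_smul_iff] at this
      have := Ideal.smul_mem_pointwise_smul g _ _ hed
      rw [Ideal.pointwise_smul_def, Ideal.map_pow, ← Ideal.pointwise_smul_def] at this
      exact Ideal.pow_right_mono hsm N this
    obtain ⟨t', ht', ht''⟩ := hdescB (T d) (Ideal.pow_le_pow_right (show N₂ ≤ N by omega) hTd)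
    have hTe : T d = b * T (eC ^ (m + 1) * u) - w * T 1 := by
      apply Subtype.ext
      change tr H _ = (b : R) * tr H _ - (w : R) * tr H _
      rw [← tr_mul H (hfixB b), ← tr_mul H (hfixB w), ← tr_sub]
      congr 1
      simp [d, Subring.coe_mul]
      ring
    refine ⟨t' * T (eC ^ (m + 1) * u), fun h => ?_, ?_⟩
    · rcases Ideal.IsPrime.mem_or_mem ‹_› (by simpa using h) with h | h
      · exact ht' h
      · have h' := (hTq _).1 h
        simp only [Subring.coe_mul, SubmonoidClass.coe_pow, eC] at h'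
        rcases Ideal.IsPrime.mem_or_mem ‹_› h' with h' | h'
        · exact heq h'
        rcases Ideal.IsPrime.mem_or_mem ‹_› h' with h' | h'
        · exact heq (Ideal.IsPrime.mem_of_pow_mem ‹_› _ h')
        · exact hu h'
    · have e1 : t' * T (eC ^ (m + 1) * u) * b = t' * T d + t' * T 1 * w := by rw [hTe]; ring
      rw [e1]
      exact add_mem ht'' (Ideal.mul_mem_left _ _ hw)

theorem result_aux (hD : MulAction.stabilizer G q ≤ H) (hle : FixedPoints.subring R G ≤ FixedPoints.subring R H)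
    (n : ℕ) :
    let q' : Ideal (FixedPoints.subring R H) := Ideal.comap (FixedPoints.subring R H).subtype q
    let φ := Localization.localRingHom (Ideal.comap (Subring.inclusion hle) q') q' (Subring.inclusion hle) rfl
    Function.Surjective ((Ideal.Quotient.mk (IsLocalRing.maximalIdeal (Localization.AtPrime q') ^ n)).comp φ) ∧
      Ideal.comap φ (IsLocalRing.maximalIdeal (Localization.AtPrime q') ^ n) =
        IsLocalRing.maximalIdeal (Localization.AtPrime (Ideal.comap (Subring.inclusion hle) q')) ^ n := by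
  intro q' φ
  obtain ⟨hS, hK⟩ := main H q hD hle n
  set p := Ideal.comap (Subring.inclusion hle) q'
  have hq' : IsLocalRing.maximalIdeal (Localization.AtPrime q') ^ n =
      (q' ^ n).map (algebraMap (FixedPoints.subring R H) (Localization.AtPrime q')) := by
    rw [Ideal.map_pow, IsLocalization.AtPrime.map_eq_maximalIdeal q' (Localization.AtPrime q')]
  have hp : IsLocalRing.maximalIdeal (Localization.AtPrime p) ^ n =
      (p ^ n).map (algebraMap (FixedPoints.subring R G) (Localization.AtPrime p)) := by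
    rw [Ideal.map_pow, IsLocalization.AtPrime.map_eq_maximalIdeal p (Localization.AtPrime p)]
  refine ⟨fun y => ?_, le_antisymm (fun z hz => ?_) ?_⟩
  · obtain ⟨y, rfl⟩ := Ideal.Quotient.mk_surjective y
    obtain ⟨⟨x, s⟩, rfl⟩ := IsLocalization.mk'_surjective q'.primeCompl y
    obtain ⟨b, t, u, ht, hu, hmem⟩ := hS x s s.2
    refine ⟨IsLocalization.mk' _ b (⟨t, ht⟩ : p.primeCompl), ?_⟩
    simp only [RingHom.comp_apply, φ, Localization.localRingHom_mk']
    rw [Ideal.Quotient.eq, hq', ← IsLocalization.mk'_sub, IsLocalization.mk'_mem_map_algebraMap_iff]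
    refine ⟨u, hu, ?_⟩
    convert neg_mem hmem using 1
    ring
  · obtain ⟨⟨b, t⟩, rfl⟩ := IsLocalization.mk'_surjective p.primeCompl z
    rw [Ideal.mem_comap, Localization.localRingHom_mk', hq', IsLocalization.mk'_mem_map_algebraMap_iff] at hz
    obtain ⟨u, hu, hub⟩ := hz
    rw [hp, IsLocalization.mk'_mem_map_algebraMap_iff]
    exact hK b u hu hub
  · refine le_trans ?_ (Ideal.le_comap_pow φ n)
    refine Ideal.pow_right_mono ?_ n
    exact fun z hz hu => hz (IsLocalHom.map_nonunit (f := φ) z hu)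

end Groth.Agent.H23Decomp
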